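import Mathlib

/-!
A finite morphism of integral schemes which is an isomorphism at the generic points is an
isomorphism near every point with integrally closed local ring.
-/

set_option autoImplicit false
universe u
open CategoryTheory AlgebraicGeometry TopologicalSpace

namespace BiratLib

/-- If `b ∈ B` is integral over a domain `A ⊆ B` and is a fraction of elements of `A`, some element
outside a prime `p` with integrally closed local ring moves `b` into `A`. -/
theorem exists_mul_mem_range {A B : Type*} [CommRing A] [IsDomain A] [CommRing B] [IsDomain B]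
    (φ : A →+* B) (hφ : Function.Injective φ) (p : Ideal A) [p.IsPrime] (Ap : Type*) [CommRing Ap]
    [Algebra A Ap] [IsLocalization.AtPrime Ap p] [IsDomain Ap] [IsIntegrallyClosed Ap] {b : B} (hb : φ.IsIntegralElem b)
    {a c : A} (hc : c ≠ 0) (hcb : φ c * b = φ a) :
    ∃ s ∉ p, φ s * b ∈ φ.range := by
  let K := FractionRing A
  letI : Algebra A B := φ.toAlgebra
  let ψ : K →+* FractionRing B :=
    IsFractionRing.lift (g := (algebraMap B (FractionRing B)).comp φ)
      (fun x y h => hφ (IsFractionRing.injective B (FractionRing B) h))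
  have hψ : ∀ r : A, ψ (algebraMap A K r) = algebraMap B (FractionRing B) (φ r) := fun r =>
    IsFractionRing.lift_algebraMap _ r
  have hcK : algebraMap A K c ≠ 0 := (map_ne_zero_iff _ (IsFractionRing.injective A K)).mpr hc
  let z : K := algebraMap A K a / algebraMap A K c
  have hz : ψ z = algebraMap B (FractionRing B) b := by
    rw [map_div₀, hψ, hψ, div_eq_iff, ← hcb, map_mul, mul_comm]
    rw [map_ne_zero_iff _ (IsFractionRing.injective B (FractionRing B)), map_ne_zero_iff _ hφ]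
    exact hc
  obtain ⟨P, hP, hev⟩ := hb
  have hzi : IsIntegral A z := by
    refine ⟨P, hP, ψ.injective ?_⟩
    rw [map_zero, Polynomial.hom_eval₂, hz, ← map_zero (algebraMap B (FractionRing B)), ← hev,
      Polynomial.hom_eval₂]
    congr 1
    exact RingHom.ext hψ
  have hle : p.primeCompl ≤ nonZeroDivisors A := p.primeCompl_le_nonZeroDivisors
  let j : Ap →+* K := IsLocalization.lift (M := p.primeCompl) (g := algebraMap A K)
    fun s => IsLocalization.map_units K ⟨s.1, hle s.2⟩
  letI : Algebra Ap K := j.toAlgebra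
  haveI : IsScalarTower A Ap K := IsScalarTower.of_algebraMap_eq fun r => (IsLocalization.lift_eq _ r).symm
  haveI : IsFractionRing Ap K := IsFractionRing.isFractionRing_of_isDomain_of_isLocalization p.primeCompl Ap K
  obtain ⟨y, hy⟩ := IsIntegrallyClosed.algebraMap_eq_of_integral (R := Ap) (K := K) hzi.tower_top
  obtain ⟨⟨a', s⟩, hs⟩ := IsLocalization.surj p.primeCompl y
  refine ⟨s, s.2, a', IsFractionRing.injective B (FractionRing B) ?_⟩
  have h1 : algebraMap A K (s : A) * z = algebraMap A K a' := by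
    have h2 := congrArg (algebraMap Ap K) hs
    rw [map_mul, hy, ← IsScalarTower.algebraMap_apply, ← IsScalarTower.algebraMap_apply] at h2
    rw [mul_comm]; exact h2
  have h2 := congrArg ψ h1
  rw [map_mul, hψ, hψ, hz] at h2
  rw [map_mul]; exact h2.symm

variable {X Y : Scheme.{u}} (f : Y ⟶ X)

theorem app_injective [IsIntegral X] [IsIntegral Y] (hdom : f.base (genericPoint Y) = genericPoint X)
    (hinj : Function.Injective (f.stalkMap (genericPoint Y)).hom) (U : X.Opens) :
    Function.Injective (f.app U).hom := by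
  intro a b hab
  by_cases hU : (U : Set X).Nonempty
  · have hη : genericPoint Y ∈ f ⁻¹ᵁ U := by
      show f.base (genericPoint Y) ∈ U
      rw [hdom]
      exact ((genericPoint_spec X).mem_open_set_iff U.isOpen).mpr (by simpa using hU)
    refine (germ_injective_of_isIntegral X (f.base (genericPoint Y)) hη) (hinj ?_)
    have := f.germ_stalkMap_apply U (genericPoint Y) hη
    exact (this a).trans ((congrArg _ hab).trans (this b).symm)
  · have : U = ⊥ := Opens.ext (Set.not_nonempty_iff_eq_empty.mp hU)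
    subst this
    exact Subsingleton.elim _ _

theorem restrict_of_le {P : MorphismProperty Scheme.{u}} [IsZariskiLocalAtTarget P] {V W : X.Opens} (hWV : W ≤ V)
    (hV : P (f ∣_ V)) : P (f ∣_ W) := by
  have h1 : P (f ∣_ V ∣_ (V.ι ⁻¹ᵁ W)) := IsZariskiLocalAtTarget.restrict (P := P) hV (V.ι ⁻¹ᵁ W)
  rw [P.arrow_mk_iso_iff (morphismRestrictRestrict f V (V.ι ⁻¹ᵁ W))] at h1
  have e : V.ι ''ᵁ (V.ι ⁻¹ᵁ W) = W := by
    rw [Scheme.Hom.image_preimage_eq_opensRange_inf, Scheme.Opens.opensRange_ι]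
    exact inf_eq_right.mpr hWV
  rwa [e] at h1

theorem finite_app_of_restrict (U : X.Opens) [IsAffine (U : Scheme.{u})] (h : IsFinite (f ∣_ U)) :
    (f.app U).hom.Finite := by
  have h := (f ∣_ U).finite_appTop
  rw [Scheme.Hom.app_eq_appLE]
  simp only [Scheme.Hom.appTop, morphismRestrict_app', TopologicalSpace.Opens.map_top] at h
  exact (Scheme.Hom.appLE_congr f _ U.ι_image_top (Scheme.Opens.ι_image_top _) (fun φ => φ.hom.Finite)).mp h

theorem isIso_restrict_of_bijective {U : X.Opens} (hU : IsAffineOpen U) (hU' : IsAffineOpen (f ⁻¹ᵁ U))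
    (h : Function.Bijective (f.app U).hom) : IsIso (f ∣_ U) := by
  have : IsIso (f.app U) := (ConcreteCategory.isIso_iff_bijective _).mpr h
  have hUa : IsAffine (U : Scheme.{u}) := hU
  refine (HasAffineProperty.iff_of_isAffine (P := MorphismProperty.isomorphisms Scheme)).mpr ⟨hU', ?_⟩
  rw [Scheme.Hom.app_eq_appLE] at this
  simp only [Scheme.Hom.appTop, morphismRestrict_app', TopologicalSpace.Opens.map_top]
  exact (Scheme.Hom.appLE_congr f _ U.ι_image_top (Scheme.Opens.ι_image_top _) (fun φ => IsIso φ)).mpr this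

theorem exists_clear_at [IsIntegral X] [IsIntegral Y] (hdom : f.base (genericPoint Y) = genericPoint X)
    (hbij : Function.Bijective (f.stalkMap (genericPoint Y)).hom) {U : X.Opens} (hU : IsAffineOpen U)
    {x : X} (hxU : x ∈ U) (hx : IsIntegrallyClosed (X.presheaf.stalk x)) (b : Γ(Y, f ⁻¹ᵁ U))
    (hb : (f.app U).hom.IsIntegralElem b) :
    ∃ s ∉ (hU.primeIdealOf ⟨x, hxU⟩).asIdeal, (f.app U).hom s * b ∈ (f.app U).hom.range := by
  haveI : Nonempty U := ⟨⟨x, hxU⟩⟩
  have hηU : genericPoint X ∈ U := ((genericPoint_spec X).mem_open_set_iff U.isOpen).mpr ⟨x, by simpa using hxU⟩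
  have hη : genericPoint Y ∈ f ⁻¹ᵁ U := by
    show f.base (genericPoint Y) ∈ U
    rw [hdom]; exact hηU
  haveI : IsDomain Γ(X, U) := IsIntegral.component_integral U
  haveI : IsDomain Γ(Y, f ⁻¹ᵁ U) := @IsIntegral.component_integral Y _ (f ⁻¹ᵁ U) ⟨⟨_, hη⟩⟩
  let φ := (f.app U).hom
  have hφ : Function.Injective φ := app_injective f hdom hbij.1 U
  have hfrac : ∀ b : Γ(Y, f ⁻¹ᵁ U), ∃ a c : Γ(X, U), c ≠ 0 ∧ φ c * b = φ a := by
    intro b
    obtain ⟨z, hz⟩ := hbij.2 (Y.presheaf.germ (f ⁻¹ᵁ U) _ hη b)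
    letI := TopCat.Presheaf.algebra_section_stalk X.presheaf (U := U) ⟨f.base (genericPoint Y), hη⟩
    haveI := hU.isLocalization_stalk ⟨f.base (genericPoint Y), hη⟩
    obtain ⟨⟨a, c⟩, hac⟩ := IsLocalization.surj (hU.primeIdealOf ⟨_, hη⟩).asIdeal.primeCompl z
    refine ⟨a, c, fun h => c.2 (h ▸ Submodule.zero_mem _), ?_⟩
    apply germ_injective_of_isIntegral Y (genericPoint Y) hη
    have h1 := congrArg (f.stalkMap (genericPoint Y)).hom hac
    rw [map_mul, RingHom.algebraMap_toAlgebra] at h1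
    rw [map_mul, ← hz, ← f.germ_stalkMap_apply U (genericPoint Y) hη,
      ← f.germ_stalkMap_apply U (genericPoint Y) hη, mul_comm]
    exact h1
  obtain ⟨a, c, hc, hcb⟩ := hfrac b
  letI := TopCat.Presheaf.algebra_section_stalk X.presheaf (U := U) ⟨x, hxU⟩
  haveI := hU.isLocalization_stalk ⟨x, hxU⟩
  haveI : IsIntegrallyClosed (X.presheaf.stalk x) := hx
  exact exists_mul_mem_range φ hφ _ (X.presheaf.stalk x) hb hc hcb

theorem exists_isIso_near' [IsIntegral X] [IsIntegral Y] {V₀ : X.Opens} (hV₀ : IsFinite (f ∣_ V₀))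
    (hdom : f.base (genericPoint Y) = genericPoint X) (hbir : IsIso (f.stalkMap (genericPoint Y)))
    (x : X) (hxV₀ : x ∈ V₀) (hx : IsIntegrallyClosed (X.presheaf.stalk x)) :
    ∃ V : X.Opens, x ∈ V ∧ IsIso (f ∣_ V) := by
  obtain ⟨_, ⟨U, hU, rfl⟩, hxU, hUV⟩ := X.isBasis_affineOpens.exists_subset_of_mem_open
    hxV₀ V₀.isOpen
  haveI hfU : IsFinite (f ∣_ U) := restrict_of_le f (P := @IsFinite) hUV hV₀
  haveI : IsAffine (U : Scheme.{u}) := hU
  have hU' : IsAffineOpen (f ⁻¹ᵁ U) := isAffine_of_isAffineHom (f ∣_ U)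
  haveI : Nonempty U := ⟨⟨x, hxU⟩⟩
  have hηU : genericPoint X ∈ U := ((genericPoint_spec X).mem_open_set_iff U.isOpen).mpr ⟨x, by simpa using hxU⟩
  have hη : genericPoint Y ∈ f ⁻¹ᵁ U := by
    show f.base (genericPoint Y) ∈ U
    rw [hdom]; exact hηU
  haveI : Nonempty ↥(f ⁻¹ᵁ U) := ⟨⟨_, hη⟩⟩
  have hbij := (ConcreteCategory.isIso_iff_bijective (f.stalkMap (genericPoint Y))).mp hbir
  haveI : IsDomain Γ(X, U) := IsIntegral.component_integral U
  haveI : IsDomain Γ(Y, f ⁻¹ᵁ U) := @IsIntegral.component_integral Y _ (f ⁻¹ᵁ U) ⟨⟨_, hη⟩⟩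
  let φ := (f.app U).hom
  have hφ : Function.Injective φ := app_injective f hdom hbij.1 U
  have hfin : φ.Finite := finite_app_of_restrict f U hfU
  let p := (hU.primeIdealOf ⟨x, hxU⟩).asIdeal
  letI := TopCat.Presheaf.algebra_section_stalk X.presheaf (U := U) ⟨x, hxU⟩
  haveI := hU.isLocalization_stalk ⟨x, hxU⟩
  haveI : IsIntegrallyClosed (X.presheaf.stalk x) := hx
  have key : ∀ b, ∃ s ∉ p, φ s * b ∈ φ.range := fun b =>
    exists_clear_at f hdom hbij hU hxU hx b (hfin.to_isIntegral b)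
  obtain ⟨s, hs, hsb⟩ : ∃ s ∉ p, ∀ b, φ s * b ∈ φ.range := by
    letI : Algebra Γ(X, U) Γ(Y, f ⁻¹ᵁ U) := φ.toAlgebra
    haveI : Module.Finite Γ(X, U) Γ(Y, f ⁻¹ᵁ U) := hfin
    obtain ⟨S, hS⟩ := Module.Finite.fg_top (R := Γ(X, U)) (M := Γ(Y, f ⁻¹ᵁ U))
    choose σ hσ hσb using key
    refine ⟨∏ b ∈ S, σ b, Submonoid.prod_mem p.primeCompl fun b _ => hσ b, fun b => ?_⟩
    have hb : b ∈ Submodule.span Γ(X, U) (S : Set Γ(Y, f ⁻¹ᵁ U)) := hS ▸ Submodule.mem_top
    induction hb using Submodule.span_induction with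
    | mem y hy =>
      obtain ⟨r, hr⟩ := hσb y
      obtain ⟨t, ht⟩ := Finset.dvd_prod_of_mem σ hy
      exact ⟨t * r, by rw [map_mul, hr, ht, map_mul]; ring⟩
    | zero => exact ⟨0, by rw [map_zero, mul_zero]⟩
    | add y z _ _ ihy ihz => rw [mul_add]; exact φ.range.add_mem ihy ihz
    | smul r y _ ih =>
      rw [Algebra.smul_def, mul_left_comm]
      exact φ.range.mul_mem ⟨r, rfl⟩ ih
  refine ⟨X.basicOpen s, ?_, ?_⟩
  · rw [X.mem_basicOpen s x hxU]
    exact IsLocalization.map_units (X.presheaf.stalk x) (⟨s, hs⟩ : p.primeCompl)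
  suffices h : Function.Bijective (f.app (X.basicOpen s)).hom by
    exact isIso_restrict_of_bijective f (hU.basicOpen s) (Scheme.preimage_basicOpen f s ▸ hU'.basicOpen (φ s)) h
  refine ⟨app_injective f hdom hbij.1 _, fun b => ?_⟩
  haveI := hU.isLocalization_basicOpen s
  haveI := IsAffineOpen.isLocalization_of_eq_basicOpen (hU') (φ s)
    (homOfLE (f.preimage_mono (X.basicOpen_le s))) (Scheme.preimage_basicOpen f s)
  haveI hfD : IsFinite (f ∣_ X.basicOpen s) := restrict_of_le f (P := @IsFinite) (X.basicOpen_le s) hfU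
  letI : Algebra Γ(Y, f ⁻¹ᵁ U) Γ(Y, f ⁻¹ᵁ X.basicOpen s) :=
    (Y.presheaf.map (homOfLE (f.preimage_mono (X.basicOpen_le s))).op).hom.toAlgebra
  obtain ⟨⟨b0, ⟨_, n, rfl⟩⟩, hb⟩ := IsLocalization.surj (Submonoid.powers (φ s)) b
  obtain ⟨a, ha⟩ := hsb b0
  have hu : IsUnit (X.presheaf.map (homOfLE (X.basicOpen_le s)).op s) :=
    RingedSpace.isUnit_res_basicOpen _ s
  refine ⟨(↑(hu.pow (n + 1)).unit⁻¹) * X.presheaf.map (homOfLE (X.basicOpen_le s)).op a, ?_⟩
  have hnat : ∀ r, (f.app (X.basicOpen s)).hom (X.presheaf.map (homOfLE (X.basicOpen_le s)).op r) =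
      Y.presheaf.map (homOfLE (f.preimage_mono (X.basicOpen_le s))).op (φ r) := fun r =>
    ConcreteCategory.congr_hom (f.naturality (homOfLE (X.basicOpen_le s)).op) r
  refine ((hu.pow (n + 1)).map (f.app (X.basicOpen s)).hom).mul_left_cancel ?_
  rw [← map_mul, ← mul_assoc, IsUnit.mul_val_inv, one_mul, hnat, map_pow, hnat, ← map_pow]
  rw [RingHom.algebraMap_toAlgebra] at hb
  rw [show φ a = φ s * b0 from ha, pow_succ, map_mul, map_mul]
  simp only [] at hb
  linear_combination (-(Y.presheaf.map (homOfLE (f.preimage_mono (X.basicOpen_le s))).op (φ s))) * hb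

theorem exists_isIso_near [IsIntegral X] [IsIntegral Y] [IsFinite f]
    (hdom : f.base (genericPoint Y) = genericPoint X) (hbir : IsIso (f.stalkMap (genericPoint Y)))
    (x : X) (hx : IsIntegrallyClosed (X.presheaf.stalk x)) :
    ∃ V : X.Opens, x ∈ V ∧ IsIso (f ∣_ V) :=
  exists_isIso_near' f (V₀ := ⊤) inferInstance hdom hbir x trivial hx

theorem map_genericPoint_of_isDominant [IsIntegral X] [IsIntegral Y] [IsDominant f] :
    f.base (genericPoint Y) = genericPoint X := by
  refine ((genericPoint_spec Y).image f.continuous).eq ?_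
  convert genericPoint_spec X using 1
  rw [Set.image_univ]
  exact f.denseRange.closure_range

theorem bijective_stalkMap_of_comp {Z : Scheme.{u}} [IsIntegral Y] [IsIntegral Z] (g : X ⟶ Z)
    [IsIntegral X] (hη : f.base (genericPoint Y) = genericPoint X)
    (h : IsIso ((f ≫ g).stalkMap (genericPoint Y))) :
    Function.Bijective (g.stalkMap (genericPoint X)).hom := by
  have hb := (ConcreteCategory.isIso_iff_bijective _).mp h
  rw [Scheme.Hom.stalkMap_comp] at hb
  suffices ∀ z, z = genericPoint X → z = f.base (genericPoint Y) → Function.Bijective (g.stalkMap z).hom from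
    this _ rfl hη.symm
  intro z hz hz'
  subst hz'
  have hgen : ∀ (w : X) (_ : w = genericPoint X) (φ : X.presheaf.stalk w ⟶ Y.presheaf.stalk (genericPoint Y)),
      Function.Injective φ.hom := by
    intro w hw φ
    subst hw
    exact RingHom.injective (R := X.functionField) φ.hom
  have hinj := hgen _ hz (f.stalkMap (genericPoint Y))
  replace hb : Function.Bijective ((f.stalkMap (genericPoint Y)).hom ∘ (g.stalkMap (f.base (genericPoint Y))).hom) := hb
  exact ⟨hb.1.of_comp, fun w => let ⟨v, hv⟩ := hb.2 ((f.stalkMap (genericPoint Y)).hom w); ⟨v, hinj hv⟩⟩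

/-- An integral birational morphism has at most one point over a point with integrally closed local ring. -/
theorem eq_of_integral [IsIntegral X] [IsIntegral Y] [IsIntegralHom f]
    (hdom : f.base (genericPoint Y) = genericPoint X)
    (hbij : Function.Bijective (f.stalkMap (genericPoint Y)).hom)
    {x : X} (hx : IsIntegrallyClosed (X.presheaf.stalk x)) (z₁ z₂ : Y) (h₁ : f.base z₁ = x) (h₂ : f.base z₂ = x) :
    z₁ = z₂ := by
  obtain ⟨_, ⟨U, hU, rfl⟩, hxU, -⟩ := X.isBasis_affineOpens.exists_subset_of_mem_open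
    (Set.mem_univ x) isOpen_univ
  have hU' := hU.preimage f
  have key : ∀ b : Γ(Y, f ⁻¹ᵁ U), ∃ a : Γ(X, U), ∀ z : Y, f.base z = x → (z ∈ Y.basicOpen b ↔ x ∈ X.basicOpen a) := by
    intro b
    obtain ⟨s, hs, a, ha⟩ := exists_clear_at f hdom hbij hU hxU hx b (IsIntegralHom.isIntegral_app f U hU b)
    refine ⟨a, fun z hz => ?_⟩
    have hsz : z ∈ Y.basicOpen ((f.app U).hom s) := by
      rw [← Scheme.preimage_basicOpen]
      show f.base z ∈ X.basicOpen s
      rw [hz, X.mem_basicOpen s x hxU]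
      letI := TopCat.Presheaf.algebra_section_stalk X.presheaf (U := U) ⟨x, hxU⟩
      haveI := hU.isLocalization_stalk ⟨x, hxU⟩
      exact IsLocalization.map_units (X.presheaf.stalk x)
        (⟨s, hs⟩ : (hU.primeIdealOf ⟨x, hxU⟩).asIdeal.primeCompl)
    calc z ∈ Y.basicOpen b ↔ z ∈ Y.basicOpen ((f.app U).hom s * b) := by
          rw [Scheme.basicOpen_mul]; exact ⟨fun h => ⟨hsz, h⟩, fun h => h.2⟩
      _ ↔ x ∈ X.basicOpen a := by
          rw [← ha, ← Scheme.preimage_basicOpen, ← hz]; rfl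
  have hsp : ∀ z z' : Y, f.base z = x → f.base z' = x → z ⤳ z' := by
    intro z z' hz hz'
    refine specializes_iff_forall_open.mpr fun O hO hz'O => ?_
    obtain ⟨b, hb, hb'⟩ := hU'.exists_basicOpen_le (V := ⟨O, hO⟩) ⟨z', hz'O⟩ (show f.base z' ∈ U by rw [hz']; exact hxU)
    obtain ⟨a, ha⟩ := key b
    exact hb ((ha z hz).mpr ((ha z' hz').mp hb'))
  exact ((hsp z₁ z₂ h₁ h₂).antisymm (hsp z₂ z₁ h₂ h₁)).eq

end BiratLib
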